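import Mathlib

set_option autoImplicit false

/-!
# (G10a) Dietzmann rewriting (for helper71, S4316)

Products of elements of a conjugation-closed finite set of exponent `e` can be shortened to
length at most `|Y| * e`.
-/

namespace Cfsg.Agent.Helper46.GS

open Classical in
/-- moving `y` to the front of a product, conjugating what it passes. -/
theorem prod_mul_eq_mul_prod_map_conj {Γ : Type*} [Group Γ] (y : Γ) (l : List Γ) :
    l.prod * y = y * (l.map (fun z => y⁻¹ * z * y)).prod := by
  induction l with
  | nil => simp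
  | cons a l ih =>
    simp only [List.prod_cons, List.map_cons]
    rw [mul_assoc, ih]
    group

open Classical in
/-- pulling `j` copies of `y` to the front. -/
theorem exists_pull {Γ : Type*} [Group Γ] (Y : Finset Γ)
    (hconj : ∀ y ∈ Y, ∀ z ∈ Y, y⁻¹ * z * y ∈ Y) (y : Γ) (hy : y ∈ Y)
    (l : List Γ) (hl : ∀ z ∈ l, z ∈ Y) (j : ℕ) (hj : j ≤ l.count y) :
    ∃ l'' : List Γ, (∀ z ∈ l'', z ∈ Y) ∧ l''.length + j = l.length ∧
      l.prod = y ^ j * l''.prod ∧ l''.count y + j = l.count y := by
  induction j with
  | zero => exact ⟨l, hl, by simp, by simp, by simp⟩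
  | succ j ih =>
    obtain ⟨l₀, hl₀, hlen, hprod, hcount⟩ := ih (by omega)
    have hmem : y ∈ l₀ := by
      rw [← List.count_pos_iff]
      omega
    obtain ⟨s, t, rfl⟩ := List.append_of_mem hmem
    have hinj : Function.Injective (fun z : Γ => y⁻¹ * z * y) := by
      intro a b hab
      simpa using hab
    refine ⟨s.map (fun z => y⁻¹ * z * y) ++ t, ?_, ?_, ?_, ?_⟩
    · intro z hz
      rcases List.mem_append.1 hz with hz | hz
      · obtain ⟨w, hw, rfl⟩ := List.mem_map.1 hz
        exact hconj y hy w (hl₀ w (List.mem_append.2 (Or.inl hw)))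
      · exact hl₀ z (List.mem_append.2 (Or.inr (List.mem_cons_of_mem _ hz)))
    · simp only [List.length_append, List.length_map, List.length_cons] at hlen ⊢
      omega
    · rw [hprod, List.prod_append, List.prod_cons, List.prod_append, ← mul_assoc s.prod,
        prod_mul_eq_mul_prod_map_conj, pow_succ]
      simp only [mul_assoc]
    · have h1 : List.count y (s.map (fun z => y⁻¹ * z * y)) = List.count y s := by
        have := List.count_map_of_injective s (fun z : Γ => y⁻¹ * z * y) hinj y
        simpa using this
      simp only [List.count_append, List.count_cons_self] at hcount ⊢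
      rw [h1]
      omega

theorem exists_short_list {Γ : Type*} [Group Γ] (Y : Finset Γ) (e : ℕ) (he : 0 < e)
    (hpow : ∀ y ∈ Y, y ^ e = 1) (hconj : ∀ y ∈ Y, ∀ z ∈ Y, y⁻¹ * z * y ∈ Y)
    (l : List Γ) (hl : ∀ z ∈ l, z ∈ Y) :
    ∃ l' : List Γ, (∀ z ∈ l', z ∈ Y) ∧ l'.prod = l.prod ∧ l'.length ≤ Y.card * e := by
  classical
  induction hn : l.length using Nat.strong_induction_on generalizing l with
  | _ n ih =>
    by_cases hle : l.length ≤ Y.card * e
    · exact ⟨l, hl, rfl, hle⟩
    · -- pigeonhole
      have hex : ∃ y ∈ Y, e < l.count y := by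
        by_contra hcon
        push Not at hcon
        have hsum : ∑ a ∈ Y, Multiset.count a (l : Multiset Γ) = (l : Multiset Γ).card :=
          Multiset.sum_count_eq_card (by intro a ha; exact hl a (by simpa using ha))
        have hbound : ∑ a ∈ Y, Multiset.count a (l : Multiset Γ) ≤ ∑ _a ∈ Y, e := by
          apply Finset.sum_le_sum
          intro a ha
          simpa using hcon a ha
        simp only [Finset.sum_const, smul_eq_mul, Multiset.coe_card] at hsum hbound
        omega
      obtain ⟨y, hy, hcnt⟩ := hex
      obtain ⟨l₀, hl₀, hlen, hprod, -⟩ := exists_pull Y hconj y hy l hl e hcnt.le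
      rw [hpow y hy, one_mul] at hprod
      obtain ⟨l', hl', hp', hlen'⟩ := ih l₀.length (by omega) l₀ hl₀ rfl
      exact ⟨l', hl', by rw [hp', hprod], hlen'⟩

end Cfsg.Agent.Helper46.GS
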