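import Mathlib
import Cfsg.Agent.Helper46.GS.G10a

set_option autoImplicit false

/-!
# (G10b) Dietzmann's lemma with an explicit bound (for helper71, S4316)
-/

namespace Cfsg.Agent.Helper46.GS

open scoped Pointwise

/-- lists over `Y ∪ Y⁻¹` can be rewritten as lists over `Y` when `Y` has exponent `e`. -/
theorem exists_list_pos {Γ : Type*} [Group Γ] (Y : Set Γ) (e : ℕ) (he : 0 < e)
    (hpow : ∀ y ∈ Y, y ^ e = 1) (l : List Γ) (hl : ∀ z ∈ l, z ∈ Y ∨ z⁻¹ ∈ Y) :
    ∃ l' : List Γ, (∀ z ∈ l', z ∈ Y) ∧ l'.prod = l.prod := by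
  induction l with
  | nil => exact ⟨[], by simp, rfl⟩
  | cons a l ih =>
    obtain ⟨l', hl', hp'⟩ := ih (fun z hz => hl z (List.mem_cons_of_mem _ hz))
    rcases hl a List.mem_cons_self with ha | ha
    · refine ⟨a :: l', ?_, by simp [hp']⟩
      intro z hz
      rcases List.mem_cons.1 hz with rfl | hz
      · exact ha
      · exact hl' z hz
    · refine ⟨List.replicate (e - 1) a⁻¹ ++ l', ?_, ?_⟩
      · intro z hz
        rcases List.mem_append.1 hz with hz | hz
        · rw [List.eq_of_mem_replicate hz]; exact ha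
        · exact hl' z hz
      · rw [List.prod_append, List.prod_replicate, hp', List.prod_cons]
        congr 1
        have h1 : a⁻¹ ^ e = 1 := hpow _ ha
        have h2 : a⁻¹ ^ (e - 1) * a⁻¹ = 1 := by
          rw [← pow_succ, Nat.sub_add_cancel he, h1]
        exact (eq_inv_of_mul_eq_one_left h2).trans (inv_inv a)

open Classical in
/-- the products of at most `n` elements of `Y`. -/
noncomputable def ballF {Γ : Type*} [Group Γ] (Y : Finset Γ) : ℕ → Finset Γ
  | 0 => {1}
  | n + 1 => insert 1 Y * ballF Y n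

theorem card_ballF_le {Γ : Type*} [Group Γ] (Y : Finset Γ) (n : ℕ) :
    (ballF Y n).card ≤ (Y.card + 1) ^ n := by
  classical
  induction n with
  | zero => simp [ballF]
  | succ n ih =>
    calc (ballF Y (n + 1)).card ≤ (insert 1 Y).card * (ballF Y n).card := Finset.card_mul_le
      _ ≤ (Y.card + 1) * (Y.card + 1) ^ n :=
        Nat.mul_le_mul (Finset.card_insert_le _ _) ih
      _ = (Y.card + 1) ^ (n + 1) := by ring

theorem one_mem_ballF {Γ : Type*} [Group Γ] (Y : Finset Γ) (n : ℕ) : (1 : Γ) ∈ ballF Y n := by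
  classical
  induction n with
  | zero => simp [ballF]
  | succ n ih =>
    have : (1 : Γ) * 1 ∈ insert 1 Y * ballF Y n :=
      Finset.mul_mem_mul (Finset.mem_insert_self _ _) ih
    simpa [ballF] using this

theorem prod_mem_ballF {Γ : Type*} [Group Γ] (Y : Finset Γ) (n : ℕ) (l : List Γ)
    (hl : ∀ z ∈ l, z ∈ Y) (hlen : l.length ≤ n) : l.prod ∈ ballF Y n := by
  classical
  induction n generalizing l with
  | zero =>
    have : l = [] := List.length_eq_zero_iff.1 (Nat.le_zero.1 hlen)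
    subst this
    simp [ballF]
  | succ n ih =>
    cases l with
    | nil => simpa using one_mem_ballF Y (n + 1)
    | cons a l =>
      have h1 : l.prod ∈ ballF Y n :=
        ih l (fun z hz => hl z (List.mem_cons_of_mem _ hz)) (by simpa using hlen)
      have h2 : a ∈ insert 1 Y := Finset.mem_insert_of_mem (hl a List.mem_cons_self)
      have : a * l.prod ∈ insert 1 Y * ballF Y n := Finset.mul_mem_mul h2 h1
      simpa [ballF] using this

theorem card_closure_le_of_conj_closed {Γ : Type*} [Group Γ] [Finite Γ] (Y : Set Γ) (k e : ℕ)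
    (hk : Y.ncard ≤ k) (he : 0 < e) (hpow : ∀ y ∈ Y, y ^ e = 1)
    (hconj : ∀ y ∈ Y, ∀ z ∈ Y, y⁻¹ * z * y ∈ Y) :
    Nat.card ↥(Subgroup.closure Y) ≤ (k + 1) ^ (k * e) := by
  classical
  have hfin : Y.Finite := Set.toFinite Y
  set Yf : Finset Γ := hfin.toFinset with hYf
  have hmemYf : ∀ z, z ∈ Yf ↔ z ∈ Y := fun z => Set.Finite.mem_toFinset hfin
  have hcard : Yf.card ≤ k := by
    rw [← Set.ncard_eq_toFinset_card Y hfin]; exact hk
  have hsub : (Subgroup.closure Y : Set Γ) ⊆ (ballF Yf (k * e) : Set Γ) := by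
    intro g hg
    have hg' : g ∈ Submonoid.closure (Y ∪ Y⁻¹) := by
      rw [← Subgroup.closure_toSubmonoid]; exact hg
    obtain ⟨l, hl0, rfl⟩ := Submonoid.exists_list_of_mem_closure hg'
    have hl : ∀ z ∈ l, z ∈ Y ∨ z⁻¹ ∈ Y := by
      intro z hz
      rcases hl0 z hz with h | h
      · exact Or.inl h
      · exact Or.inr (Set.mem_inv.1 h)
    obtain ⟨l₁, hl₁, hp₁⟩ := exists_list_pos Y e he hpow l hl
    obtain ⟨l₂, hl₂, hp₂, hlen₂⟩ := exists_short_list Yf e he
      (fun y hy => hpow y ((hmemYf y).1 hy))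
      (fun y hy z hz => (hmemYf _).2 (hconj y ((hmemYf y).1 hy) z ((hmemYf z).1 hz)))
      l₁ (fun z hz => (hmemYf z).2 (hl₁ z hz))
    rw [← hp₁, ← hp₂]
    exact Finset.mem_coe.2 (prod_mem_ballF Yf (k * e) l₂ hl₂
      (hlen₂.trans (Nat.mul_le_mul_right e hcard)))
  calc Nat.card ↥(Subgroup.closure Y) = (Subgroup.closure Y : Set Γ).ncard := rfl
    _ ≤ (ballF Yf (k * e) : Set Γ).ncard := Set.ncard_le_ncard hsub (Finset.finite_toSet _)
    _ = (ballF Yf (k * e)).card := Set.ncard_coe_finset _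
    _ ≤ (Yf.card + 1) ^ (k * e) := card_ballF_le Yf (k * e)
    _ ≤ (k + 1) ^ (k * e) := Nat.pow_le_pow_left (by omega) _

end Cfsg.Agent.Helper46.GS
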